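import Cfsg.Agent.PG.PF8.Char
import Cfsg.Agent.PG.PF8.Part
import Cfsg.Agent.PG.T345
import Cfsg.Agent.PG.Lam

/-! Peterfalvi, section 10: maximal subgroups of types III, IV and V. -/

set_option autoImplicit false
set_option linter.unusedSectionVars false

open Pointwise Cfsg Cfsg.Lib.Solv
open scoped ComplexConjugate

namespace Cfsg.Lib.FT.PG

variable {G : Type*} [Group G] [Dl G] [Finite G] {M U W W₁ W₂ S T : Subgroup G}

theorem typeP24_of_II_IV (hG : Ctx G) (hM : Mx M) (h : OfTypeII_IV M U W W₁ W₂) :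
    TypeP24 M W₁ U W₂ := ⟨h.typeP.isTypePWith, mFT_odd hG M, h.U_ne, h.prime⟩

theorem typeP_W_dg (hG : Ctx G) (hM : Mx M) (h : OfTypeP M U W W₁ W₂) : DG W :=
  dg_of_le_cent hG h.W₂_ne ((Fcore_dg hG hM).mono h.W₂_le)
    ((abelian_le_cent (cyclic_abelian (typeP_W_cyclic h))).trans (centS h.dprod.le_right))

theorem FTsupp0_delt (hG : Ctx G) (hM : Mx M) {x : G} (hx : x ∈ FTsupp0 M) : PiElt (dl G) x := by
  by_cases h : x ∈ FTsupp M
  · obtain ⟨-, -, y, hy, hy1, hc⟩ := h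
    rw [def_FTcore hG hM] at hy
    exact delt_of_cent1 hG hy1 ((Msigma_dg M).mem hy) hc
  · by_cases h1 : FTtype M = 1
    · exact absurd (FTsupp0_type1 h1 ▸ hx) h
    obtain ⟨U, W, W₁, W₂, hP⟩ := FTtypeP_witness hG hM h1
    obtain ⟨y, hy, m, -, rfl⟩ := (FTsupp0_typeP hG hM hP).subset ⟨hx, h⟩
    exact (p_eltJ _).2 ((typeP_W_dg hG hM hP).mem hy.1)

/-- an involution, and the products of two of its conjugates, are not `Δ`-elements -/
theorem exists_avoid (hG : Ctx G) : ∃ t : G, t * t = 1 ∧ t ≠ 1 ∧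
    ∀ A : Set G, (∀ a ∈ A, a ≠ 1 ∧ PiElt (dl G) a) → Cfsg.Lib.PG.Avoid t A := by
  have h2 : 2 ∣ Nat.card G := by
    by_contra h
    have := odd_order_solvable (G := G) (Nat.odd_iff.2 (by omega))
    exact mFT_nonSolvable hG this
  have := Fact.mk Nat.prime_two
  obtain ⟨t, ht⟩ := exists_prime_orderOf_dvd_card' 2 h2
  have ht2 : t * t = 1 := by rw [← sq, ← ht, pow_orderOf_eq_one]
  refine ⟨t, ht2, fun e => by simp [e] at ht, fun A hA => ⟨fun h => ?_, fun g k h => ?_⟩⟩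
  · exact two_not_dl hG ((hA t h).2 2 Nat.prime_two (ht ▸ dvd_rfl))
  · obtain ⟨h1, hd⟩ := hA _ h
    have ho := mFT_odd hG _ (loc_norm (H := Subgroup.zpowers _)
      (by rwa [Ne, Subgroup.zpowers_eq_bot]) (dg_zpowers hd))
    have hi : t⁻¹ = t := inv_eq_of_mul_eq_one_right ht2
    have hn : g * t * g⁻¹ ∈ 𝐍 (Subgroup.zpowers (g * t * g⁻¹ * (k * t * k⁻¹))) := by
      rw [normP, conj_smul_zpowers, ← Subgroup.zpowers_inv]
      congr 1
      simp only [mul_inv_rev, inv_inv, hi, mul_assoc, inv_mul_cancel_left]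
      rw [← mul_assoc t t, ht2]
      simp [mul_assoc]
    have := ho.of_dvd_nat (order_dvdG hn)
    rw [orderJ, ht] at this
    exact absurd this (by decide)

theorem FT_avoid (hG : Ctx G) (hM : Mx M) : ∃ t : G, t * t = 1 ∧ t ≠ 1 ∧
    Cfsg.Lib.PG.Avoid t (DadeSupp (FTsupp0 M) (supportR M)) := by
  obtain ⟨t, h1, h2, h3⟩ := exists_avoid hG
  refine ⟨t, h1, h2, h3 _ fun x hx =>
    ⟨fun e => not_support_Dade_1 (FT_Dade0_hyp hG hM) (e ▸ hx), ?_⟩⟩
  obtain ⟨a, ha, r, hr, y, rfl⟩ := hx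
  exact (p_eltJ _).2 (delt_of_cent1 hG (mem_sharp.1 (FTsupp0_sub M ha)).2 (FTsupp0_delt hG hM ha)
    (mul_mem (cent1id a) (supportR_le_cent1 M a hr)))

theorem OfTypeII.exists_regular (h : OfTypeII M U W W₁ W₂) :
    ∃ U₀ ≤ U, Monoid.exponent U₀ = Monoid.exponent U ∧ Semiregular (fittingHallOf M) U₀ := by
  obtain ⟨U₀, h₀⟩ := h.typeF.compl
  exact ⟨U₀, h₀.le, h₀.exponent, h.Fcore_der ▸ h₀.frob.regular⟩

/-- The partner of a maximal subgroup of type III, IV or V has type II. -/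
theorem FTtype345_pair (hG : Ctx G) (hM : Mx M) (h : OfTypeP M U W W₁ W₂)
    (h2 : FTtype M ≠ 2) :
    ∃ S V, TypePPair M S W W₁ W₂ ∧ FTtype S = 2 ∧ OfTypeII S V W W₂ W₁ := by
  obtain ⟨S, pair, V, hS⟩ := FTtypeP_pair_witness hG hM h
  have hS2 := pair.type2.resolve_left h2
  exact ⟨S, V, pair, hS2, compl_of_typeII hG pair.maxT hS hS2⟩

/-- Peterfalvi (10.3), first assertion. -/
theorem FTtype345_core_prime (hG : Ctx G) (hM : Mx M)
    (h : OfTypeP M U W W₁ W₂) (h2 : FTtype M ≠ 2) : (Nat.card W₂).Prime := by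
  obtain ⟨S, V, -, -, hS⟩ := FTtype345_pair hG hM h h2
  exact hS.typeII_IV.prime

theorem FTtypeP_gt2 (hG : Ctx G) (hM : Mx M) (h : OfTypeP M U W W₁ W₂)
    (h2 : FTtype M ≠ 2) : 2 < FTtype M := by
  have h1 := FTtypeP_neq1 hG hM h
  have h3 := FTtype_range M
  omega

/-- Peterfalvi, Hypothesis (10.1). -/
theorem FTtype345_hyp (hG : Ctx G) (hM : Mx M) (h : OfTypeP M U W W₁ W₂)
    (h2 : FTtype M ≠ 2) : Cfsg.Lib.PG.T345 M ⁅M, M⁆ W W₁ W₂ (FTsupp0 M) (supportR M) where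
  dd := by
    have := FT_prDade_hyp hG hM h
    rwa [FTcore_type_gt2 (FTtypeP_gt2 hG hM h h2), FTsupp_type_gt2 (FTtypeP_gt2 hG hM h h2)] at this
  prime := FTtype345_core_prime hG hM h h2
  W₂_le := h.W₂_le_der2
  odd := mFT_odd hG M
  sol := solvableS (der_sub M) (of_typeP_sol h)

/-- Peterfalvi (10.8). -/
theorem FTtype345_noncoherence (hG : Ctx G) (hM : Mx M) (h : 2 < FTtype M) :
    ¬ Coherent M ⊤ (seqIndD ⁅M, M⁆ M ⁅M, M⁆ ⊥) {1}ᶜ (FTDade0 M) := by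
  have := hG.simple
  obtain ⟨U, W, W₁, W₂, hP⟩ := FTtypeP_witness hG hM (by omega)
  obtain ⟨t, h1, h2, h3⟩ := FT_avoid hG hM
  exact (FTtype345_hyp hG hM hP (by omega)).noncoh h1 h2 h3

/-- Peterfalvi (10.10). -/
theorem FTtype5_exclusion (hG : Ctx G) (hM : Mx M) : FTtype M ≠ 5 := by
  intro h5
  obtain ⟨U, W, W₁, W₂, hP⟩ := FTtypeP_witness hG hM (by omega)
  have hV := compl_of_typeV hG hM hP h5
  have e : fittingHallOf M = ⁅M, M⁆ := hP.sdprodU.eq_left_of_right_eq_bot hV.U_eq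
  refine FTtype345_noncoherence hG hM (by omega)
    (Cfsg.Lib.PG.t345_type5_coherent (FTtype345_hyp hG hM hP (by omega)) (e ▸ Fcore_nil M) ?_)
  rw [← e]
  rcases hV.cases with h1 | ⟨p, hp, h1, h2, -⟩ | ⟨p, hp, h1, h2, h3, -⟩
  · rw [norm_mmax_Fcore hG hM] at h1
    exact Or.inl h1
  · exact Or.inr (Or.inl ⟨p, hp, h1, h2⟩)
  · exact Or.inr (Or.inr ⟨p, hp, h1, h2, h3⟩)

/-- Peterfalvi (10.11), first assertion. -/
theorem FTtypeP_pair_primes (hG : Ctx G) (h : TypePPair S T W W₁ W₂) :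
    (Nat.card W₁).Prime ∧ (Nat.card W₂).Prime := by
  obtain ⟨U, hS⟩ := typeP_pairW hG h
  obtain ⟨V, hT⟩ := typeP_pairW hG (typeP_pair_sym h)
  exact ⟨(compl_of_typeII_IV hG h.maxS hS (FTtype5_exclusion hG h.maxS)).prime,
    (compl_of_typeII_IV hG h.maxT hT (FTtype5_exclusion hG h.maxT)).prime⟩

theorem FTtypeP_primes (hG : Ctx G) (hM : Mx M) (h : OfTypeP M U W W₁ W₂) :
    (Nat.card W₁).Prime ∧ (Nat.card W₂).Prime := by
  obtain ⟨T, pair, -⟩ := FTtypeP_pair_witness hG hM h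
  exact FTtypeP_pair_primes hG pair

theorem FTtypeII_card_Fcore (hG : Ctx G) (hM : Mx M)
    (h : OfTypeP M U W W₁ W₂) (h2 : FTtype M = 2) :
    Nat.card (fittingHallOf M) = Nat.card W₂ ^ Nat.card W₁ := by
  have hII := compl_of_typeII hG hM h h2
  obtain ⟨U₀, h1, h2, h3⟩ := hII.exists_regular
  exact (typeII_core_of (typeP24_of_II_IV hG hM hII.typeII_IV) h1 h2 h3).2

/-- In type II the subgroup `H₀` of (9.4) is trivial. -/
theorem FTtypeII_Fcore_kernel_trivial (hG : Ctx G) (hM : Mx M)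
    (h : OfTypeP M U W W₁ W₂) (h2 : FTtype M = 2) : Ptype_Fcore_kernel M U = ⊥ := by
  have h24 := typeP24_of_II_IV hG hM (compl_of_typeII hG hM h h2).typeII_IV
  have h1 := Ptype_card_H h24
  rw [def_Ptype_factor_prime h24 (FTtypeP_primes hG hM h).2, ← FTtypeII_card_Fcore hG hM h h2] at h1
  exact trivg_card1.2 (Nat.eq_of_mul_eq_mul_left (cardG_gt0 _) (h1.symm.trans (mul_one _).symm))

end Cfsg.Lib.FT.PG
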